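import Groth.Agent.Gaga.H41.Ind
import Groth.Agent.CohtopA.RestrCoh
import Groth.Agent.CohtopA.Sec

/-!
# Vanishing of germs of cohomology along `K` only depends on the sheaf near `K`

* `indZero_of_zeroOn`: a sheaf which is zero on an open neighbourhood of `K` has `IndZero` in all degrees;
* `IndZero.of_local_exact`: `C → A → B` exact, `C → A` injective and `A → B` locally surjective on an open
  neighbourhood `W` of `K`: `IndZero C K (q+1)`, `IndZero A K q` imply `IndZero B K q`;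
* `indZero_congr_on`: local isomorphisms;
* `exists_lift_of_local_exact`: lifting of sections of `B` near `K` if `IndZero C K 1`;
* `indZero_of_sum`: a direct summand of a finite sum.
-/

set_option autoImplicit false
universe u

open CategoryTheory Abelian Limits Opposite TopologicalSpace

noncomputable section

namespace Groth.Agent.Gaga.H335.LocIso

open Groth.Agent.CohtopA.Sec Groth.Agent.Gaga.H41.Ind
open Groth.Agent.CohtopA.MVElem (res_res)

section Abelian

variable {C : Type*} [Category C] [Abelian C] {A B : C} (φ : A ⟶ B)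

/-- `0 → ker φ → A → im φ → 0`. -/
def kerSC : ShortComplex C :=
  ShortComplex.mk (kernel.ι φ) (Abelian.factorThruImage φ) (by
    rw [← cancel_mono (Abelian.image.ι φ)]
    simp)

theorem kerSC_shortExact : (kerSC φ).ShortExact where
  exact := by
    have : Mono (kerSC φ).f := by dsimp [kerSC]; infer_instance
    refine ShortComplex.exact_of_f_is_kernel _ (KernelFork.IsLimit.ofι' _ _ ?_)
    intro Z k hk
    have key : ∀ k : Z ⟶ A, k ≫ Abelian.factorThruImage φ = 0 → k ≫ φ = 0 := fun k h1 => by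
      rw [← Abelian.image.fac φ, ← Category.assoc, h1, zero_comp]
    exact ⟨kernel.lift φ k (key k hk), kernel.lift_ι _ _ _⟩
  mono_f := by dsimp [kerSC]; infer_instance
  epi_g := by dsimp [kerSC]; infer_instance

/-- `0 → im φ → B → coker φ → 0`. -/
def imSC : ShortComplex C :=
  ShortComplex.mk (Abelian.image.ι φ) (cokernel.π φ) (kernel.condition _)

theorem imSC_shortExact : (imSC φ).ShortExact where
  exact := ShortComplex.exact_of_f_is_kernel _ (kernelIsKernel (cokernel.π φ))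
  mono_f := by dsimp [imSC]; infer_instance
  epi_g := by dsimp [imSC]; infer_instance

end Abelian

variable {T : TopCat.{u}}

theorem isZero_of_subsingleton {A : CohTop.Ab T} (h : ∀ V : Opens T, Subsingleton (Γs A V)) : IsZero A := by
  rw [IsZero.iff_id_eq_zero]
  apply Sheaf.hom_ext
  ext V s
  exact (h V.unop).elim _ _

/-- Cohomology of a sheaf which is zero on an open set. -/
theorem subsingleton_HU_of_zeroOn (A : CohTop.Ab T) {U : Opens T}
    (h : ∀ V ≤ U, Subsingleton (Γs A V)) (n : ℕ) : Subsingleton (CohTop.HU A n U) := by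
  have h1 : IsZero (CohTop.restr A U) := by
    apply isZero_of_subsingleton
    intro V
    refine h (U.isOpenEmbedding.functor.obj V) ?_
    rintro _ ⟨x, -, rfl⟩
    exact x.2
  have h2 : Subsingleton (CohTop.H (CohTop.restr A U) n) := by
    constructor
    intro a b
    have h3 : ∀ c : CohTop.H (CohTop.restr A U) n, c = 0 := fun c => by
      have : c = Ext.comp c (Ext.mk₀ (𝟙 _)) (add_zero n) := (Ext.comp_mk₀_id c).symm
      rw [this, h1.eq_of_src (𝟙 _) 0, Ext.mk₀_zero, Ext.comp_zero]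
    rw [h3 a, h3 b]
  exact (Groth.Agent.CohtopA.RestrCoh.restrEquiv U A n).toEquiv.subsingleton

theorem indZero_of_zeroOn {A : CohTop.Ab T} {W : Opens T} (h : ∀ V ≤ W, Subsingleton (Γs A V))
    {K : Set T} (hK : K ⊆ W) (q : ℕ) : IndZero A K q := by
  intro U hU a
  refine ⟨U ⊓ W, inf_le_left, Set.subset_inter hU hK, ?_⟩
  have := subsingleton_HU_of_zeroOn A (U := U ⊓ W) (fun V hV => h V (hV.trans inf_le_right)) q
  exact Subsingleton.elim _ _

variable {A B C : CohTop.Ab T}

/-- `φ` is locally surjective on `W`. -/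
def SurjOn (φ : A ⟶ B) (W : Opens T) : Prop :=
  ∀ V ≤ W, ∀ t : Γs B V, ∀ x ∈ V, ∃ (V' : Opens T) (h : V' ≤ V), x ∈ V' ∧ ∃ s : Γs A V', m φ V' s = r B h t

/-- `φ` is injective on `W`. -/
def InjOn (φ : A ⟶ B) (W : Opens T) : Prop := ∀ V ≤ W, ∀ s : Γs A V, m φ V s = 0 → s = 0

/-- `C → A → B` is exact on `W`. -/
def ExOn (c : C ⟶ A) (φ : A ⟶ B) (W : Opens T) : Prop :=
  (∀ V ≤ W, ∀ s : Γs C V, m φ V (m c V s) = 0) ∧
  ∀ V ≤ W, ∀ a : Γs A V, m φ V a = 0 → ∀ x ∈ V, ∃ (V' : Opens T) (h : V' ≤ V), x ∈ V' ∧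
    ∃ s : Γs C V', m c V' s = r A h a

theorem SurjOn.mono {φ : A ⟶ B} {W W' : Opens T} (h : SurjOn φ W) (hW : W' ≤ W) : SurjOn φ W' :=
  fun V hV => h V (hV.trans hW)

theorem InjOn.mono {φ : A ⟶ B} {W W' : Opens T} (h : InjOn φ W) (hW : W' ≤ W) : InjOn φ W' :=
  fun V hV => h V (hV.trans hW)

theorem ExOn.mono {c : C ⟶ A} {φ : A ⟶ B} {W W' : Opens T} (h : ExOn c φ W) (hW : W' ≤ W) :
    ExOn c φ W' :=
  ⟨fun V hV => h.1 V (hV.trans hW), fun V hV => h.2 V (hV.trans hW)⟩

/-- An injective and locally surjective morphism is bijective on sections. -/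
theorem exists_of_injOn_surjOn {φ : A ⟶ B} {W : Opens T} (hi : InjOn φ W) (hs : SurjOn φ W)
    {V : Opens T} (hV : V ≤ W) (t : Γs B V) : ∃ s : Γs A V, m φ V s = t := by
  choose V' hV' hx s hs using hs V hV t
  have hsup : V = ⨆ x : V, V' x.1 x.2 := by
    apply le_antisymm
    · intro x hx'
      exact Opens.mem_iSup.2 ⟨⟨x, hx'⟩, hx x hx'⟩
    · exact iSup_le fun x => hV' _ _
  obtain ⟨w, hw⟩ := glue' (F := A) (U := V) (fun x : V => V' x.1 x.2) hsup
    (fun x => s x.1 x.2) (fun x y => by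
      rw [← sub_eq_zero]
      refine hi _ (inf_le_left.trans ((hV' _ _).trans hV)) _ ?_
      rw [map_sub, m_r, m_r, hs, hs, r_r, r_r, sub_self])
  refine ⟨w, sep _ _ fun x hx' => ⟨V' x hx', hV' x hx', hx x hx', ?_⟩⟩
  rw [← m_r, ← hs x hx']
  congr 1
  exact hw ⟨x, hx'⟩

theorem cokernel_zeroOn {φ : A ⟶ B} {W : Opens T} (hs : SurjOn φ W) :
    ∀ V ≤ W, Subsingleton (Γs (cokernel φ) V) := by
  intro V hV
  have h0 : ∀ t : Γs (cokernel φ) V, t = 0 := by
    intro t
    refine sep _ _ fun x hx => ?_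
    obtain ⟨V₁, h₁, b, hx₁, hb⟩ := exists_lift (cokernel.π φ) t x hx
    obtain ⟨V₂, h₂, hx₂, a, ha⟩ := hs V₁ (h₁.trans hV) b x hx₁
    refine ⟨V₂, h₂.trans h₁, hx₂, ?_⟩
    rw [map_zero, ← r_r h₁ h₂, ← hb, ← m_r, ← ha, ← m_comp, cokernel.condition]
    rfl
  exact ⟨fun a b => (h0 a).trans (h0 b).symm⟩

theorem kernel_zeroOn {φ : A ⟶ B} {W : Opens T} (hi : InjOn φ W) :
    ∀ V ≤ W, Subsingleton (Γs (kernel φ) V) := by
  intro V hV
  have h0 : ∀ t : Γs (kernel φ) V, t = 0 := by
    intro t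
    apply m_injective (kernel.ι φ) V
    rw [map_zero]
    refine hi V hV _ ?_
    rw [← m_comp, kernel.condition]
    rfl
  exact ⟨fun a b => (h0 a).trans (h0 b).symm⟩

/-- Local isomorphisms, direct image direction. -/
theorem IndZero.of_iso_on (φ : A ⟶ B) {W : Opens T} (hi : InjOn φ W) (hs : SurjOn φ W) {K : Set T}
    (hK : K ⊆ W) {q : ℕ} (h : IndZero A K q) : IndZero B K q := by
  have h1 : IndZero (Abelian.image φ) K q :=
    IndZero.ses₃ (kerSC_shortExact φ) h (indZero_of_zeroOn (kernel_zeroOn hi) hK (q + 1))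
  exact IndZero.ses₂ (imSC_shortExact φ) h1 (indZero_of_zeroOn (cokernel_zeroOn hs) hK q)

/-- Local isomorphisms, inverse image direction. -/
theorem IndZero.of_iso_on' (φ : A ⟶ B) {W : Opens T} (hi : InjOn φ W) (hs : SurjOn φ W) {K : Set T}
    (hK : K ⊆ W) {q : ℕ} (h : IndZero B K (q + 1)) : IndZero A K (q + 1) := by
  have h1 : IndZero (Abelian.image φ) K (q + 1) :=
    IndZero.ses₁ (imSC_shortExact φ) (indZero_of_zeroOn (cokernel_zeroOn hs) hK q) h
  exact IndZero.ses₂ (kerSC_shortExact φ) (indZero_of_zeroOn (kernel_zeroOn hi) hK (q + 1)) h1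

/-- `0 → C → A → im φ → 0`. -/
theorem shortExact_of_elt (c : C ⟶ A) (φ : A ⟶ B) (hinj : ∀ V, Function.Injective (m c V))
    (h0 : ∀ V s, m φ V (m c V s) = 0) (hex : ∀ V a, m φ V a = 0 → ∃ s, m c V s = a) :
    ∃ w : c ≫ Abelian.factorThruImage φ = 0,
      (ShortComplex.mk c (Abelian.factorThruImage φ) w).ShortExact := by
  have hc : c ≫ φ = 0 := by
    apply Sheaf.hom_ext
    ext V s
    exact h0 V.unop s
  have hm : Mono c := mono_of_injective c hinj
  have w : c ≫ Abelian.factorThruImage φ = 0 := by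
    rw [← cancel_mono (Abelian.image.ι φ)]
    simp [hc]
  -- compare with the kernel
  have hiso : IsIso (kernel.lift φ c hc) := by
    have h1 : Mono (kernel.lift φ c hc) := by
      have : Mono (kernel.lift φ c hc ≫ kernel.ι φ) := by rw [kernel.lift_ι]; exact hm
      exact mono_of_mono _ (kernel.ι φ)
    have h2 : Epi (kernel.lift φ c hc) := by
      refine epi_of_local _ fun U t x hx => ⟨U, le_rfl, ?_⟩
      obtain ⟨s, hs⟩ := hex U (m (kernel.ι φ) U t) (by
        rw [← m_comp, kernel.condition]; rfl)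
      refine ⟨s, hx, ?_⟩
      rw [r_self]
      apply m_injective (kernel.ι φ) U
      rw [← m_comp, kernel.lift_ι, hs]
    exact isIso_of_mono_of_epi _
  refine ⟨w, ?_⟩
  refine ShortComplex.shortExact_of_iso (S₁ := kerSC φ) ?_ (kerSC_shortExact φ)
  exact ShortComplex.isoMk (asIso (kernel.lift φ c hc)).symm (Iso.refl _) (Iso.refl _)
    (by
      dsimp [kerSC]
      rw [Category.comp_id, IsIso.inv_comp_eq, kernel.lift_ι]) (by simp [kerSC])

/-- The basic dimension shift. -/
theorem IndZero.of_exact (c : C ⟶ A) (φ : A ⟶ B) (hinj : ∀ V, Function.Injective (m c V))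
    (h0 : ∀ V s, m φ V (m c V s) = 0) (hex : ∀ V a, m φ V a = 0 → ∃ s, m c V s = a)
    {W : Opens T} (hs : SurjOn φ W) {K : Set T} (hK : K ⊆ W) {q : ℕ} (hC : IndZero C K (q + 1))
    (hA : IndZero A K q) : IndZero B K q := by
  obtain ⟨w, hS⟩ := shortExact_of_elt c φ hinj h0 hex
  have h1 : IndZero (Abelian.image φ) K q := IndZero.ses₃ hS hA hC
  exact IndZero.ses₂ (imSC_shortExact φ) h1 (indZero_of_zeroOn (cokernel_zeroOn hs) hK q)

/-- A direct summand of a finite sum. -/
theorem indZero_of_sum {ι : Type*} (s : Finset ι) (p : ι → (B ⟶ A)) (i : ι → (A ⟶ B))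
    (h : ∑ k ∈ s, p k ≫ i k = 𝟙 B) {K : Set T} {q : ℕ} (hA : IndZero A K q) : IndZero B K q := by
  classical
  have key : ∀ (t : Finset ι) (U : Opens T) (_ : K ⊆ U) (a : CohTop.HU B q U),
      ∃ (V : Opens T) (hV : V ≤ U), K ⊆ V ∧
        CohTop.res B q hV (CohTop.HUmap (∑ k ∈ t, p k ≫ i k) q U a) = 0 := by
    intro t
    induction t using Finset.induction_on with
    | empty =>
      intro U hU a
      refine ⟨U, le_rfl, hU, ?_⟩
      have e0 : CohTop.HUmap (∑ k ∈ (∅ : Finset ι), p k ≫ i k) q U a = 0 := by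
        rw [Finset.sum_empty, HUmap_apply, Ext.mk₀_zero, Ext.comp_zero]
        rfl
      rw [e0, map_zero]
    | insert k t hk ih =>
      intro U hU a
      obtain ⟨V₁, h₁, hK₁, e₁⟩ := ih U hU a
      obtain ⟨V₂, h₂, hK₂, e₂⟩ := hA U hU (CohTop.HUmap (p k) q U a)
      have hle : V₁ ⊓ V₂ ≤ U := inf_le_left.trans h₁
      refine ⟨V₁ ⊓ V₂, hle, Set.subset_inter hK₁ hK₂, ?_⟩
      have e3 : CohTop.HUmap (∑ k ∈ insert k t, p k ≫ i k) q U a =
          CohTop.HUmap (i k) q U (CohTop.HUmap (p k) q U a) +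
            CohTop.HUmap (∑ k ∈ t, p k ≫ i k) q U a := by
        rw [HUmap_apply, HUmap_apply, HUmap_apply, HUmap_apply, Finset.sum_insert hk, Ext.mk₀_add,
          Ext.comp_add, Ext.comp_assoc_of_third_deg_zero, Ext.mk₀_comp_mk₀]
        rfl
      rw [e3, map_add, res_HUmap]
      have e4 : CohTop.res A q hle (CohTop.HUmap (p k) q U a) = 0 := by
        rw [← res_res A q h₂ (inf_le_right : V₁ ⊓ V₂ ≤ V₂), e₂, map_zero]
      have e5 : CohTop.res B q hle (CohTop.HUmap (∑ k ∈ t, p k ≫ i k) q U a) = 0 := by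
        rw [← res_res B q h₁ (inf_le_left : V₁ ⊓ V₂ ≤ V₁), e₁, map_zero]
      rw [e4, e5, map_zero, add_zero]
  intro U hU a
  obtain ⟨V, hV, hKV, e⟩ := key s U hU a
  refine ⟨V, hV, hKV, ?_⟩
  rw [h, HUmap_apply, Ext.comp_mk₀_id] at e
  exact e

end Groth.Agent.Gaga.H335.LocIso
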